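import Cfsg.Agent.H841.TwC
import Cfsg.Agent.H597.OreFi.GeoDef

/-!
# `Fi24`: the geometry of the classes of twins in `N(⟨x3⟩)` (helper834)

The labels `L9` of the 165 transvections of `PSU(5, 2)`: every member of `DN` has a twin `PN m` (`m : L9`), and
`b ∈ Nb a ∨ Tw a b` if and only if `adj9 m n`.

* `geoDN : Geo DN zN`
-/

set_option autoImplicit false
set_option maxRecDepth 100000

namespace Cfsg.Agent.H834.GeoDN

open Cfsg
open Cfsg.Agent.LThreeFi24.Comp Cfsg.Agent.LThreeFi24.Twin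
open Cfsg.Agent.H841.Tri
open Cfsg.Agent.H834.U5 (PsL PsL_mem PsL_inj PsL_x commute_PsL exists_PsL ix ix_lt ix_lb lb_ix)
open Cfsg.Agent.SporadicStructure.FSolModel (L9 adj9 lam9)
open Cfsg.Agent.SporadicStructure.FSolEnd9 (adj9_refl)
open Cfsg.Agent.Lib.FieldFour
open Cfsg.Spor (Fi24)
open Cfsg.Agent.H597.OreFi (Geo)

/-- the member of `T0` with a label, in `N(⟨x3⟩)` -/
noncomputable def PN (m : L9) : NX := Cfsg.Agent.H841.Tri.mk (PsL m) (T0_E3 (PsL_mem m))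

theorem PN_mem (m : L9) : PN m ∈ DN := T0_E3 (PsL_mem m)

theorem PN_z (m : L9) : Commute (PN m) zN :=
  (mem_T0_iff.2 (show ((PN m : NX) : Fi24) ∈ Cfsg.Agent.H834.U5.T0 from PsL_mem m)).2

theorem PN_T0 (m : L9) : PN m ∈ Cfsg.Agent.H841.Ext.T0 DN zN := ⟨PN_mem m, PN_z m⟩

theorem PN_inj {m n : L9} (h : PN m = PN n) : m = n := PsL_inj (congrArg Subtype.val h)

theorem PN_x : PN .x = dN 0 := Subtype.ext PsL_x

theorem exists_PN {t : NX} (ht : t ∈ Cfsg.Agent.H841.Ext.T0 DN zN) : ∃ m, t = PN m := by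
  obtain ⟨m, hm⟩ := exists_PsL (mem_T0_iff.1 ht)
  exact ⟨m, Subtype.ext hm⟩

theorem nb_PN {m n : L9} : PN n ∈ Nb DN (PN m) ↔ n ≠ m ∧ adj9 m n = true := by
  constructor
  · rintro ⟨-, h2, h3⟩
    exact ⟨fun h => h2 (by rw [h]), (commute_PsL m n).1 (congrArg Subtype.val h3)⟩
  · rintro ⟨h1, h2⟩
    exact ⟨PN_mem n, fun h => h1 (PN_inj h), Subtype.ext ((commute_PsL m n).2 h2).eq⟩

/-- `m` is the label of `e` -/
def Lab (e : NX) (m : L9) : Prop := e ∈ DN ∧ Tw DN e (PN m)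

theorem exists_lab {e : NX} (he : e ∈ DN) : ∃ m, Lab e m := by
  obtain ⟨t, ht, htz, hw⟩ := twN e he
  obtain ⟨m, rfl⟩ := exists_PN (t := t) ⟨ht, htz⟩
  exact ⟨m, he, hw⟩

theorem lab_PN (m : L9) : Lab (PN m) m := ⟨PN_mem m, Tw.refl _⟩

theorem nb_symm {a b : NX} (ha : a ∈ DN) (h : b ∈ Nb DN a) : a ∈ Nb DN b :=
  ⟨ha, fun h1 => h.2.1 h1.symm, h.2.2.symm⟩

theorem Lab.nb {a b : NX} {m n : L9} (ha : Lab a m) (hb : Lab b n) : b ∈ Nb DN a ↔ n ≠ m ∧ adj9 m n = true := by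
  rw [← nb_PN]
  have h1 : Nb DN a = Nb DN (PN m) := ha.2
  have h2 : Nb DN b = Nb DN (PN n) := hb.2
  rw [h1]
  constructor
  · intro h
    have h3 := nb_symm (PN_mem m) h
    rw [h2] at h3
    exact nb_symm (PN_mem n) h3
  · intro h
    have h3 := nb_symm (PN_mem m) h
    rw [← h2] at h3
    exact nb_symm hb.1 h3

theorem Lab.tw {a b : NX} {m n : L9} (ha : Lab a m) (hb : Lab b n) : Tw DN a b ↔ m = n := by
  constructor
  · intro h
    exact PN_inj (un_gen (PN_mem m) (PN_z m) (PN_mem n) (PN_z n) (ha.2.symm.trans (h.trans hb.2)))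
  · rintro rfl
    exact ha.2.trans hb.2.symm

theorem Lab.nbtw {a b : NX} {m n : L9} (ha : Lab a m) (hb : Lab b n) :
    (b ∈ Nb DN a ∨ Tw DN a b) ↔ adj9 m n = true := by
  rw [ha.nb hb, ha.tw hb]
  constructor
  · rintro (h | rfl)
    · exact h.2
    · exact adj9_refl _
  · intro h
    by_cases h1 : m = n
    · exact Or.inr h1
    · exact Or.inl ⟨fun h2 => h1 h2.symm, h⟩

/-! ### Conjugation -/

theorem exists_g {e : NX} (he : e ∈ DN) : ∃ g : NX, Lab (g * e * g⁻¹) .x := by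
  obtain ⟨t, ht, htz, hw⟩ := twN e he
  obtain ⟨g, -, h⟩ := trN t ht htz
  refine ⟨g, tsetDN.cj _ he g, ?_⟩
  have h1 := hw.conj tsetDN g
  rw [h] at h1
  rwa [PN_x]

theorem conj_injective (g : NX) : Function.Injective fun y : NX => g * y * g⁻¹ := fun _ _ h =>
  mul_left_cancel (mul_right_cancel h)

theorem nb_conj (g : NX) {a b : NX} : g * b * g⁻¹ ∈ Nb DN (g * a * g⁻¹) ↔ b ∈ Nb DN a := by
  rw [Nb_conj tsetDN]
  exact (conj_injective g).mem_set_image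

theorem tw_conj (g : NX) {a b : NX} : Tw DN (g * a * g⁻¹) (g * b * g⁻¹) ↔ Tw DN a b := by
  constructor
  · intro h
    have h1 := h.conj tsetDN g⁻¹
    have e : ∀ y : NX, g⁻¹ * (g * y * g⁻¹) * g⁻¹⁻¹ = y := fun y => by group
    rwa [e, e] at h1
  · intro h
    exact h.conj tsetDN g

theorem nbtw_conj (g : NX) {a b : NX} : (g * b * g⁻¹ ∈ Nb DN (g * a * g⁻¹) ∨ Tw DN (g * a * g⁻¹) (g * b * g⁻¹)) ↔
    (b ∈ Nb DN a ∨ Tw DN a b) := by
  rw [nb_conj, tw_conj]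

theorem cc (g y : NX) : g * (g⁻¹ * y * g) * g⁻¹ = y := by group

/-- the neighbours of a member with label `x` -/
theorem lab_nb {e a : NX} (he : Lab e .x) (ha : a ∈ Nb DN e) : ∃ k γ, Lab a (.e k γ) := by
  obtain ⟨m, hm⟩ := exists_lab ha.1
  have h1 := (he.nb hm).1 ha
  cases m with
  | x => exact absurd rfl h1.1
  | e k γ => exact ⟨k, γ, hm⟩
  | a ε α β δ => exact absurd h1.2 (by simp [adj9])

theorem nb_of_lab {e a : NX} {k : Fin 9} {γ : F4} (he : Lab e .x) (ha : Lab a (.e k γ)) : a ∈ Nb DN e :=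
  (he.nb ha).2 ⟨by simp, rfl⟩

theorem nb_e {a b : NX} {k : Fin 9} {γ γ' : F4} (ha : Lab a (.e k γ)) (hb : Lab b (.e k γ')) (h : γ' ≠ γ) :
    b ∈ Nb DN a :=
  (ha.nb hb).2 ⟨fun h1 => h (by injection h1), beq_iff_eq.2 rfl⟩

/-! ### The geometry -/

theorem lineDN : ∀ e ∈ DN, ∀ a ∈ Nb DN e, ∀ b ∈ Nb DN e, ∀ c ∈ Nb DN e, (b ∈ Nb DN a ∨ Tw DN a b) →
    (c ∈ Nb DN b ∨ Tw DN b c) → (c ∈ Nb DN a ∨ Tw DN a c) := by
  intro e he a ha b hb c hc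
  obtain ⟨g, hg⟩ := exists_g he
  rw [← nbtw_conj g, ← nbtw_conj g (a := b), ← nbtw_conj g (a := a) (b := c)]
  obtain ⟨k, γ, ha'⟩ := lab_nb hg ((nb_conj g).2 ha)
  obtain ⟨k', γ', hb'⟩ := lab_nb hg ((nb_conj g).2 hb)
  obtain ⟨k'', γ'', hc'⟩ := lab_nb hg ((nb_conj g).2 hc)
  rw [ha'.nbtw hb', hb'.nbtw hc', ha'.nbtw hc']
  intro h1 h2
  have h3 : k = k' := beq_iff_eq.1 h1
  have h4 : k' = k'' := beq_iff_eq.1 h2
  exact beq_iff_eq.2 (h3.trans h4)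

theorem F4_ne : ∀ γ : F4, F4.add γ .i ≠ γ ∧ F4.add γ .w ≠ γ ∧ F4.add γ .v ≠ γ ∧ F4.add γ .w ≠ F4.add γ .i ∧
    F4.add γ .v ≠ F4.add γ .i ∧ F4.add γ .v ≠ F4.add γ .w := by decide +kernel

theorem fiveDN : ∀ e ∈ DN, ∀ a ∈ Nb DN e, ∃ b c f : NX, b ∈ Nb DN e ∧ c ∈ Nb DN e ∧ f ∈ Nb DN e ∧ b ∈ Nb DN a ∧
    c ∈ Nb DN a ∧ f ∈ Nb DN a ∧ c ∈ Nb DN b ∧ f ∈ Nb DN b ∧ f ∈ Nb DN c := by
  intro e he a ha
  obtain ⟨g, hg⟩ := exists_g he
  obtain ⟨k, γ, ha'⟩ := lab_nb hg ((nb_conj g).2 ha)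
  obtain ⟨h1, h2, h3, h4, h5, h6⟩ := F4_ne γ
  have L : ∀ γ' : F4, Lab (g * (g⁻¹ * PN (.e k γ') * g) * g⁻¹) (.e k γ') := fun γ' => by
    rw [cc]; exact lab_PN _
  refine ⟨g⁻¹ * PN (.e k (F4.add γ .i)) * g, g⁻¹ * PN (.e k (F4.add γ .w)) * g, g⁻¹ * PN (.e k (F4.add γ .v)) * g,
    ?_, ?_, ?_, ?_, ?_, ?_, ?_, ?_, ?_⟩
  · exact (nb_conj g).1 (nb_of_lab hg (L _))
  · exact (nb_conj g).1 (nb_of_lab hg (L _))
  · exact (nb_conj g).1 (nb_of_lab hg (L _))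
  · exact (nb_conj g).1 (nb_e ha' (L _) h1)
  · exact (nb_conj g).1 (nb_e ha' (L _) h2)
  · exact (nb_conj g).1 (nb_e ha' (L _) h3)
  · exact (nb_conj g).1 (nb_e (L _) (L _) h4)
  · exact (nb_conj g).1 (nb_e (L _) (L _) h5)
  · exact (nb_conj g).1 (nb_e (L _) (L _) h6)

theorem projDN : ∀ e ∈ DN, ∀ a ∈ Nb DN e, ∀ x ∈ DN, x ∉ Nb DN e → ¬ Tw DN e x →
    ∃ u ∈ Nb DN e, (u ∈ Nb DN a ∨ Tw DN a u) ∧ x ∈ Nb DN u := by
  intro e he a ha x hx hne hnt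
  obtain ⟨g, hg⟩ := exists_g he
  obtain ⟨k, γ, ha'⟩ := lab_nb hg ((nb_conj g).2 ha)
  obtain ⟨m, hm⟩ := exists_lab (tsetDN.cj x hx g)
  rw [← nb_conj g] at hne
  rw [← tw_conj g] at hnt
  rw [hg.nb hm] at hne
  rw [hg.tw hm] at hnt
  cases m with
  | x => exact absurd rfl hnt
  | e k' γ' => exact absurd ⟨by simp, rfl⟩ hne
  | a ε α β δ =>
    have L : Lab (g * (g⁻¹ * PN (.e k (lam9 k α β δ)) * g) * g⁻¹) (.e k (lam9 k α β δ)) := by
      rw [cc]; exact lab_PN _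
    refine ⟨g⁻¹ * PN (.e k (lam9 k α β δ)) * g, (nb_conj g).1 (nb_of_lab hg L), ?_, ?_⟩
    · rw [← nbtw_conj g, ha'.nbtw L]
      exact beq_iff_eq.2 rfl
    · rw [← nb_conj g, L.nb hm]
      exact ⟨by simp, beq_iff_eq.2 rfl⟩

/-! ### The numbers -/

/-- the labels are numbered from 0 to 164 -/
noncomputable def ixE : L9 ≃ Fin 165 where
  toFun l := ⟨ix l, ix_lt l⟩
  invFun i := Cfsg.Agent.H834.U5.lb.getD i .x
  left_inv l := lb_ix l
  right_inv i := Fin.ext (ix_lb i.2)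

theorem card_L9 : Nat.card L9 = 165 := by
  rw [Nat.card_congr ixE, Nat.card_eq_fintype_card, Fintype.card_fin]

theorem T0_eq : Cfsg.Agent.H841.Ext.T0 DN zN = Set.range PN := by
  ext t
  constructor
  · intro ht
    obtain ⟨m, hm⟩ := exists_PN ht
    exact ⟨m, hm.symm⟩
  · rintro ⟨m, rfl⟩
    exact PN_T0 m

theorem cVDN : (Cfsg.Agent.H841.Ext.T0 DN zN).ncard = 165 := by
  rw [T0_eq, ← Set.image_univ, Set.ncard_image_of_injective _ (fun _ _ h => PN_inj h), Set.ncard_univ, card_L9]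

theorem T0_cj {g t : NX} (hg : Commute g zN) : g * t * g⁻¹ ∈ Cfsg.Agent.H841.Ext.T0 DN zN ↔
    t ∈ Cfsg.Agent.H841.Ext.T0 DN zN := by
  have key : ∀ {g t : NX}, Commute g zN → t ∈ Cfsg.Agent.H841.Ext.T0 DN zN → g * t * g⁻¹ ∈ Cfsg.Agent.H841.Ext.T0 DN zN :=
    fun hg ht => ⟨tsetDN.cj _ ht.1 _, (hg.mul_left ht.2).mul_left hg.inv_left⟩
  refine ⟨fun h => ?_, key hg⟩
  have h1 := key hg.inv_left h
  have e : g⁻¹ * (g * t * g⁻¹) * g⁻¹⁻¹ = t := by group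
  rwa [e] at h1

theorem cj_surj (g : NX) (y : NX) : ∃ x, g * x * g⁻¹ = y := ⟨g⁻¹ * y * g, cc g y⟩

theorem cNDN : ∀ x ∈ Cfsg.Agent.H841.Ext.T0 DN zN, (Nb DN x ∩ Cfsg.Agent.H841.Ext.T0 DN zN).ncard = 36 := by
  intro x hx
  obtain ⟨g, hg, h⟩ := trN x hx.1 hx.2
  have h1 : (fun y : NX => g * y * g⁻¹) '' (Nb DN x ∩ Cfsg.Agent.H841.Ext.T0 DN zN) =
      Set.range fun p : Fin 9 × F4 => PN (.e p.1 p.2) := by
    ext y
    obtain ⟨x', rfl⟩ := cj_surj g y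
    rw [(conj_injective g).mem_set_image, Set.mem_inter_iff, ← nb_conj g, ← T0_cj hg, h, ← PN_x]
    constructor
    · rintro ⟨h2, h3⟩
      obtain ⟨m, hm⟩ := exists_PN h3
      rw [hm] at h2 ⊢
      rw [nb_PN] at h2
      cases m with
      | x => exact absurd rfl h2.1
      | e k γ => exact ⟨(k, γ), rfl⟩
      | a ε α β δ => exact absurd h2.2 (by simp [adj9])
    · rintro ⟨⟨k, γ⟩, h2⟩
      rw [← h2]
      exact ⟨nb_PN.2 ⟨by simp, rfl⟩, PN_T0 _⟩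
  rw [← Set.ncard_image_of_injective _ (conj_injective g), h1, ← Set.image_univ, Set.ncard_image_of_injective,
    Set.ncard_univ, Nat.card_prod, Nat.card_eq_fintype_card, Nat.card_eq_fintype_card]
  · decide
  · rintro ⟨k, γ⟩ ⟨k', γ'⟩ h2
    have h3 := PN_inj h2
    injection h3 with h4 h5
    exact Prod.ext h4 h5

theorem cLDN : ∀ x ∈ Cfsg.Agent.H841.Ext.T0 DN zN, ∀ q ∈ Nb DN x ∩ Cfsg.Agent.H841.Ext.T0 DN zN,
    {a | a ∈ Nb DN x ∩ Cfsg.Agent.H841.Ext.T0 DN zN ∧ (a = q ∨ a ∈ Nb DN q)}.ncard = 4 := by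
  intro x hx q hq
  obtain ⟨g, hg, h⟩ := trN x hx.1 hx.2
  obtain ⟨hq1, hq2⟩ := hq
  rw [← nb_conj g, h, ← PN_x] at hq1
  obtain ⟨n, hn⟩ := exists_PN ((T0_cj hg).2 hq2)
  rw [hn, nb_PN] at hq1
  cases n with
  | x => exact absurd rfl hq1.1
  | a ε α β δ => exact absurd hq1.2 (by simp [adj9])
  | e k γ =>
    have h1 : (fun y : NX => g * y * g⁻¹) '' {a | a ∈ Nb DN x ∩ Cfsg.Agent.H841.Ext.T0 DN zN ∧ (a = q ∨ a ∈ Nb DN q)} =
        Set.range fun γ' : F4 => PN (.e k γ') := by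
      ext y
      obtain ⟨x', rfl⟩ := cj_surj g y
      rw [(conj_injective g).mem_set_image, Set.mem_setOf_eq, Set.mem_inter_iff, ← nb_conj g, ← T0_cj hg, h, ← PN_x,
        ← nb_conj g (a := q), hn, ← (conj_injective g).eq_iff (a := x') (b := q)]
      show ((g * x' * g⁻¹ ∈ Nb DN (PN .x) ∧ g * x' * g⁻¹ ∈ Cfsg.Agent.H841.Ext.T0 DN zN) ∧
        (g * x' * g⁻¹ = g * q * g⁻¹ ∨ g * x' * g⁻¹ ∈ Nb DN (PN (.e k γ)))) ↔ _
      rw [hn]
      constructor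
      · rintro ⟨⟨h2, h3⟩, h4⟩
        obtain ⟨m, hm⟩ := exists_PN h3
        rw [hm] at h2 h4 ⊢
        rw [nb_PN] at h2 h4
        cases m with
        | x => exact absurd rfl h2.1
        | a ε α β δ => exact absurd h2.2 (by simp [adj9])
        | e k' γ' =>
          rcases h4 with h4 | h4
          · rw [h4]; exact ⟨γ, rfl⟩
          · have h5 : k = k' := beq_iff_eq.1 h4.2
            rw [h5]; exact ⟨γ', rfl⟩
      · rintro ⟨γ', h2⟩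
        rw [← h2]
        refine ⟨⟨nb_PN.2 ⟨by simp, rfl⟩, PN_T0 _⟩, ?_⟩
        by_cases h3 : γ' = γ
        · left; show PN _ = PN _; rw [h3]
        · right
          exact nb_PN.2 ⟨fun h4 => h3 (by injection h4), beq_iff_eq.2 rfl⟩
    rw [← Set.ncard_image_of_injective _ (conj_injective g), h1, ← Set.image_univ, Set.ncard_image_of_injective,
      Set.ncard_univ, Nat.card_eq_fintype_card]
    · decide
    · intro γ₁ γ₂ h2
      have h3 := PN_inj h2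
      injection h3

/-- **The geometry of the classes of twins in `N(⟨x3⟩)`.** -/
theorem geoDN : Geo DN zN where
  line := lineDN
  five := fiveDN
  proj := projDN
  cV := cVDN
  cN := cNDN
  cL := cLDN

end Cfsg.Agent.H834.GeoDN
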